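import Groth.Agent.H9Godement.Triv
import Groth.Agent.EtFound.Basic
import Mathlib.Algebra.Category.Grp.FilteredColimits
import Mathlib.AlgebraicGeometry.Sites.EtalePoint

/-!
# The Godement sheaf of a sheaf of groups on the small étale site
-/

noncomputable section

universe u

open CategoryTheory CategoryTheory.Limits AlgebraicGeometry Opposite NonAbH1

set_option linter.style.haveILetI false
set_option backward.isDefEq.respectTransparency false
set_option backward.isDefEq.respectTransparency.types false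

namespace Groth.Agent.H9Godement

variable {X : Scheme.{u}} (F : Sheaf X.smallEtaleTopology GrpCat.{u + 1})

/-- The chosen geometric point at `x`. -/
abbrev gpt (x : X) : Spec (CommRingCat.of (SeparableClosure (X.residueField x))) ⟶ X :=
  (Scheme.SpecToEquivOfField (SeparableClosure (X.residueField x)) X).2
    ⟨x, CommRingCat.ofHom (algebraMap (X.residueField x) _)⟩

theorem gpt_default (x : X) : gpt x default = x := Scheme.fromSpecResidueField_apply x _

abbrev fib (x : X) : X.Etale ⥤ Type u := (Scheme.pointSmallEtale (gpt x)).fiber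

abbrev Idx (x : X) := AsSmall.{u + 1} (fib x).Elementsᵒᵖ

instance (x : X) : IsFiltered (Idx x) := IsFiltered.of_equivalence AsSmall.equiv

def dia (x : X) : Idx x ⥤ GrpCat.{u + 1} := AsSmall.down ⋙ (CategoryOfElements.π _).op ⋙ F.obj

def stalk (x : X) : GrpCat.{u + 1} := GrpCat.FilteredColimits.colimit.{u + 1, u + 1} (dia F x)

def germ {x : X} {V : X.Etale} (v : (fib x).obj V) : F.obj.obj (op V) →* stalk F x :=
  ((GrpCat.FilteredColimits.colimitCocone.{u + 1, u + 1} (dia F x)).ι.app
    (AsSmall.up.obj (op (Functor.elementsMk (fib x) V v)))).hom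

theorem germ_map {x : X} {V W : X.Etale} (f : W ⟶ V) (w : (fib x).obj W) (s : F.obj.obj (op V)) :
    germ F w (F.obj.map f.op s) = germ F ((fib x).map f w) s := by
  let q : Functor.elementsMk (fib x) W w ⟶ Functor.elementsMk (fib x) V ((fib x).map f w) := ⟨f, rfl⟩
  have := (GrpCat.FilteredColimits.colimitCocone.{u + 1, u + 1} (dia F x)).w (AsSmall.up.map q.op)
  exact ConcreteCategory.congr_hom this s

theorem exists_of_germ_eq {x : X} {V : X.Etale} (v : (fib x).obj V) {s t : F.obj.obj (op V)}
    (h : germ F v s = germ F v t) :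
    ∃ (W : X.Etale) (f : W ⟶ V) (w : (fib x).obj W), (fib x).map f w = v ∧ F.obj.map f.op s = F.obj.map f.op t := by
  let i : Idx x := AsSmall.up.obj (op (Functor.elementsMk (fib x) V v))
  obtain ⟨k, f, hf⟩ := (Types.FilteredColimit.isColimit_eq_iff'
    (isColimitOfPreserves (forget GrpCat.{u + 1}) (GrpCat.FilteredColimits.colimitCoconeIsColimit.{u + 1, u + 1} (dia F x)))
    (i := i) s t).1 h
  let q := (AsSmall.down.map f).unop
  exact ⟨_, q.1, (AsSmall.down.obj k).unop.2, q.2, hf⟩

def obj (V : X.Etale) : GrpCat.{u + 1} := GrpCat.of (∀ x : X, (fib x).obj V → stalk F x)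

def presheaf : X.Etaleᵒᵖ ⥤ GrpCat.{u + 1} where
  obj V := obj F V.unop
  map f := GrpCat.ofHom
    { toFun := fun g x v => g x ((fib x).map f.unop v)
      map_one' := rfl
      map_mul' := fun _ _ => rfl }
  map_id V := by
    refine GrpCat.hom_ext (MonoidHom.ext fun g => funext fun x => funext fun v => ?_)
    show g x ((fib x).map (𝟙 V.unop) v) = g x v
    rw [CategoryTheory.Functor.map_id]
    rfl
  map_comp f f' := by
    refine GrpCat.hom_ext (MonoidHom.ext fun g => funext fun x => funext fun v => ?_)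
    show g x ((fib x).map (f'.unop ≫ f.unop) v) = g x ((fib x).map f.unop ((fib x).map f'.unop v))
    rw [FunctorToTypes.map_comp_apply]

theorem cover {x : X} {V : X.Etale} (S : Sieve V) (hS : S ∈ X.smallEtaleTopology V) (v : (fib x).obj V) :
    ∃ (T : X.Etale) (f : T ⟶ V) (_ : S f) (t : (fib x).obj T), (fib x).map f t = v :=
  (Scheme.pointSmallEtale (gpt x)).jointly_surjective S hS v

theorem square {x : X} {V T T' : X.Etale} (a : T ⟶ V) (a' : T' ⟶ V) (z : (fib x).obj T) (z' : (fib x).obj T')
    (h : (fib x).map a z = (fib x).map a' z') : ∃ (R : X.Etale) (b : R ⟶ T) (b' : R ⟶ T') (y : (fib x).obj R),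
      b ≫ a = b' ≫ a' ∧ (fib x).map b y = z ∧ (fib x).map b' y = z' := by
  let q : Functor.elementsMk (fib x) T z ⟶ Functor.elementsMk (fib x) V ((fib x).map a z) := ⟨a, rfl⟩
  let q' : Functor.elementsMk (fib x) T' z' ⟶ Functor.elementsMk (fib x) V ((fib x).map a z) := ⟨a', h.symm⟩
  obtain ⟨e, g, g', hg⟩ := IsCofiltered.cospan q q'
  exact ⟨e.1, g.1, g'.1, e.2, congrArg Subtype.val hg, g.2, g'.2⟩

theorem equalize {x : X} {V T : X.Etale} (a a' : T ⟶ V) (z : (fib x).obj T) (h : (fib x).map a z = (fib x).map a' z) :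
    ∃ (R : X.Etale) (b : R ⟶ T) (y : (fib x).obj R), b ≫ a = b ≫ a' ∧ (fib x).map b y = z := by
  let q : Functor.elementsMk (fib x) T z ⟶ Functor.elementsMk (fib x) V ((fib x).map a z) := ⟨a, rfl⟩
  let q' : Functor.elementsMk (fib x) T z ⟶ Functor.elementsMk (fib x) V ((fib x).map a z) := ⟨a', h.symm⟩
  obtain ⟨e, g, hg⟩ := IsCofilteredOrEmpty.cone_maps q q'
  exact ⟨e.1, g.1, e.2, congrArg Subtype.val hg, g.2⟩

theorem isSheaf : Presheaf.IsSheaf X.smallEtaleTopology (presheaf F) := by
  intro E V S hS φ hφ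
  rw [Presieve.compatible_iff_sieveCompatible] at hφ
  choose T f hf t ht using fun (x : X) (v : (fib x).obj V) => cover S hS v
  let φ' : ∀ x v, E ⟶ obj F (T x v) := fun x v => φ (f x v) (hf x v)
  let Φ : E ⟶ obj F V := GrpCat.ofHom
    { toFun := fun e x v => φ' x v e x (t x v)
      map_one' := funext fun x => funext fun v => by simp only [map_one]; rfl
      map_mul' := fun e e' => funext fun x => funext fun v => by simp only [map_mul]; rfl }
  refine ⟨Φ, fun W g hg => ?_, fun Ψ hΨ => ?_⟩
  · refine GrpCat.hom_ext (MonoidHom.ext fun e => funext fun x => funext fun w => ?_)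
    let v : (fib x).obj V := (fib x).map g w
    obtain ⟨R, b, b', y, hb, hby, hby'⟩ := square (f x v) g (t x v) w (ht x v)
    have h₁ : φ (b ≫ f x v) (S.downward_closed (hf x v) b) = φ (f x v) (hf x v) ≫ (presheaf F).map b.op := hφ _ _ _
    have h₂ : φ (b' ≫ g) (S.downward_closed hg b') = φ g hg ≫ (presheaf F).map b'.op := hφ _ _ _
    have h₃ : φ (b ≫ f x v) (S.downward_closed (hf x v) b) = φ (b' ≫ g) (S.downward_closed hg b') := by congr 1
    let ψ : E ⟶ obj F W := φ g hg
    show φ' x v e x (t x v) = ψ e x w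
    rw [h₁, h₂] at h₃
    have : φ' x v e x ((fib x).map b y) = ψ e x ((fib x).map b' y) :=
      congr_fun (congr_fun (ConcreteCategory.congr_hom h₃ e) x) y
    rwa [hby, hby'] at this
  · refine GrpCat.hom_ext (MonoidHom.ext fun e => funext fun x => funext fun v => ?_)
    have h : Ψ.hom e x ((fib x).map (f x v) (t x v)) = φ' x v e x (t x v) :=
      congr_fun (congr_fun (ConcreteCategory.congr_hom (hΨ (f x v) (hf x v)) e) x) (t x v)
    rwa [ht] at h

/-- The Godement sheaf. -/
def sheaf : Sheaf X.smallEtaleTopology GrpCat.{u + 1} := ⟨presheaf F, isSheaf F⟩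

/-- The map to the Godement sheaf. -/
def toSheaf : F ⟶ sheaf F := ⟨{
  app := fun V => GrpCat.ofHom
    { toFun := fun s x v => germ F v s
      map_one' := funext fun x => funext fun v => map_one _
      map_mul' := fun s s' => funext fun x => funext fun v => map_mul _ _ _ }
  naturality := fun V W f => GrpCat.hom_ext (MonoidHom.ext fun s => funext fun x => funext fun w => germ_map F f.unop w s) }⟩

theorem toSheaf_injective (V : X.Etaleᵒᵖ) : Function.Injective ((toSheaf F).hom.app V) := by
  obtain ⟨V⟩ := V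
  intro s s' h
  let S : Sieve V :=
    { arrows := fun W f => F.obj.map f.op s = F.obj.map f.op s'
      downward_closed := fun {W W'} f hf g => by
        rw [op_comp, Functor.map_comp, ConcreteCategory.comp_apply, ConcreteCategory.comp_apply, hf] }
  have hS : S ∈ X.smallEtaleTopology V := by
    rw [EtFound.mem_topology_iff]
    intro y
    obtain ⟨v, hv⟩ := Scheme.pointSmallEtaleFiberObjToPreimage_surjective (gpt (V.hom y)) (gpt_default _) V ⟨y, rfl⟩
    obtain ⟨W, f, w, rfl, hw⟩ := exists_of_germ_eq F v (congr_fun (congr_fun h (V.hom y)) v)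
    refine ⟨W, f, (Scheme.pointSmallEtaleFiberObjToPreimage (gpt (V.hom y)) (gpt_default _) w).1, hw, ?_⟩
    rw [Subtype.ext_iff] at hv
    exact (Scheme.Hom.comp_apply _ _ _).symm.trans hv
  exact CechTorsor.group_sep S hS fun W f hf => hf

/-- Torsors under the restrictions of the Godement sheaf are trivial. -/
theorem isTrivial_over (U : X.Etale) (P : GSheaf ((sheaf F).over U)) (hP : P.IsTorsor) : P.IsTrivial := by
  refine H9Godement.isTrivial (Pt := fun x : X => Over.forget U ⋙ fib x) (M := fun x => stalk F x)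
    (ev := fun x W z =>
      { toFun := fun (g : ∀ x : X, (fib x).obj W.left → stalk F x) => g x z
        map_one' := rfl, map_mul' := fun _ _ => rfl })
    ⟨?_, ?_, ?_, ?_, ?_, ?_⟩ Over.mkIdTerminal P hP
  · intro x V W f z g
    rfl
  · intro V g g' h
    exact funext fun x => funext fun z => h x z
  · intro V x
    exact ⟨x, fun _ _ => rfl⟩
  · intro x V S hS z
    obtain ⟨T, f, hf, t, ht⟩ := cover _ ((GrothendieckTopology.mem_over_iff _ _).1 hS) z
    exact ⟨_, _, (Sieve.overEquiv_iff _ _).1 hf, t, ht⟩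
  · intro x V T T' a a' z z' h
    obtain ⟨R, b, b', y, hb, hy, hy'⟩ := square a.left a'.left z z' h
    refine ⟨Over.mk (b ≫ T.hom), Over.homMk b rfl, Over.homMk b' ?_, y, Over.OverMorphism.ext hb, hy, hy'⟩
    show b' ≫ T'.hom = b ≫ T.hom
    rw [← Over.w a', ← Over.w a, reassoc_of% hb]
  · intro x V T a a' z h
    obtain ⟨R, b, y, hb, hy⟩ := equalize a.left a'.left z h
    exact ⟨Over.mk (b ≫ T.hom), Over.homMk b rfl, y, Over.OverMorphism.ext hb, hy⟩

end Groth.Agent.H9Godement
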