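import Groth.Agent.H9Boundary.Basic

/-!
# Sheaves of groups of point evaluations have only trivial torsors

A sheaf of groups whose sections over `V` are arbitrary families of values at the points of `V`
(for a family of point functors which lift along coverings and are cofiltered) is flasque in the
non-abelian sense.
-/

noncomputable section

universe t k m w v u

open CategoryTheory CategoryTheory.Limits Opposite NonAbH1 NonAbH1.GSheaf

set_option linter.style.haveILetI false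
set_option backward.isDefEq.respectTransparency false
set_option backward.isDefEq.respectTransparency.types false

namespace Groth.Agent.H9Godement

variable {C : Type u} [Category.{v} C] {J : GrothendieckTopology C} [J.HasSheafCompose (forget GrpCat.{w})]
  (G : Sheaf J GrpCat.{w}) {κ : Type k} (Pt : κ → C ⥤ Type t) (M : κ → Type m) [∀ i, Group (M i)]
  (ev : ∀ (i : κ) {V : C}, (Pt i).obj V → G.obj.obj (op V) →* M i)

/-- The conditions on the point functors and on the evaluation maps. -/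
structure IsPointSheaf : Prop where
  nat : ∀ (i : κ) {V W : C} (f : W ⟶ V) (z : (Pt i).obj W) (g : G.obj.obj (op V)),
    ev i z (G.obj.map f.op g) = ev i ((Pt i).map f z) g
  inj : ∀ {V : C} (g g' : G.obj.obj (op V)), (∀ i (z : (Pt i).obj V), ev i z g = ev i z g') → g = g'
  surj : ∀ {V : C} (x : ∀ i, (Pt i).obj V → M i), ∃ g, ∀ i z, ev i z g = x i z
  cover : ∀ (i : κ) {V : C} (S : Sieve V), S ∈ J V → ∀ z : (Pt i).obj V,
    ∃ (T : C) (f : T ⟶ V) (_ : S f) (z' : (Pt i).obj T), (Pt i).map f z' = z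
  square : ∀ (i : κ) {V T T' : C} (a : T ⟶ V) (a' : T' ⟶ V) (z : (Pt i).obj T) (z' : (Pt i).obj T'),
    (Pt i).map a z = (Pt i).map a' z' → ∃ (R : C) (b : R ⟶ T) (b' : R ⟶ T') (y : (Pt i).obj R),
      b ≫ a = b' ≫ a' ∧ (Pt i).map b y = z ∧ (Pt i).map b' y = z'
  equalize : ∀ (i : κ) {V T : C} (a a' : T ⟶ V) (z : (Pt i).obj T),
    (Pt i).map a z = (Pt i).map a' z → ∃ (R : C) (b : R ⟶ T) (y : (Pt i).obj R),
      b ≫ a = b ≫ a' ∧ (Pt i).map b y = z

variable {G Pt M ev}

theorem isTrivial (h : IsPointSheaf G Pt M ev) {T₀ : C} (hT₀ : IsTerminal T₀)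
    (P : GSheaf G) (hP : P.IsTorsor) : P.IsTrivial := by
  classical
  suffices hs : Nonempty P.P.obj.sections from hs.elim fun s => H9Boundary.trivial_of_section P hP.1 s
  obtain ⟨S, hS, hne⟩ := hP.2 T₀
  choose W c hc w hw using fun (i : κ) (x : (Pt i).obj T₀) => h.cover i S hS x
  let t : ∀ i x, P.P.obj.obj (op (W i x)) := fun i x => (hne (c i x) (hc i x)).some
  let d : ∀ {U : Cᵒᵖ}, P.P.obj.obj U → P.P.obj.obj U → G.obj.obj U := fun {U} p q => (hP.1 U p q).choose
  have hd : ∀ {U : Cᵒᵖ} (p q : P.P.obj.obj U), P.smul (d p q) p = q := fun {U} p q => (hP.1 U p q).choose_spec.1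
  have hd' : ∀ {U : Cᵒᵖ} {p q : P.P.obj.obj U} {g : G.obj.obj U}, P.smul g p = q → d p q = g :=
    fun {U p q g} hg => (hP.1 U p q).unique (hd p q) hg
  have dmap : ∀ {U V : Cᵒᵖ} (f : U ⟶ V) (p q : P.P.obj.obj U),
      d (P.P.obj.map f p) (P.P.obj.map f q) = G.obj.map f (d p q) := fun f p q => hd' (by
    rw [← P.map_smul, hd])
  have dsmul : ∀ {U : Cᵒᵖ} (g : G.obj.obj U) (p q : P.P.obj.obj U), d (P.smul g p) q = d p q * g⁻¹ := fun g p q => hd' (by
    rw [← P.mul_smul, inv_mul_cancel_right, hd])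
  have pmap : ∀ {A B D : C} (f : B ⟶ A) (g : D ⟶ B) (p : P.P.obj.obj (op A)),
      P.P.obj.map g.op (P.P.obj.map f.op p) = P.P.obj.map (g ≫ f).op p := fun f g p => by
    rw [op_comp, Functor.map_comp]
    rfl
  let R : ∀ {U : Cᵒᵖ}, P.P.obj.obj U → Prop := fun {U} p =>
    ∀ ⦃T : C⦄ (a : T ⟶ U.unop) (i : κ) (x : (Pt i).obj T₀) (b : T ⟶ W i x) (z : (Pt i).obj T),
      (Pt i).map b z = w i x → ev i z (d (P.P.obj.map a.op p) (P.P.obj.map b.op (t i x))) = 1
  have key : ∀ (i : κ) {V : C} (y : (Pt i).obj V), ∃ (x : (Pt i).obj T₀) (T : C) (a : T ⟶ V) (b : T ⟶ W i x)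
      (z : (Pt i).obj T), (Pt i).map a z = y ∧ (Pt i).map b z = w i x := fun i V y => by
    obtain ⟨T, a, b, z, -, h₁, h₂⟩ := h.square i (hT₀.from V) (c i ((Pt i).map (hT₀.from V) y)) y _ (hw i _).symm
    exact ⟨_, T, a, b, z, h₁, h₂⟩
  refine (H9Boundary.exists_section P.P R ?_ ?_ ?_ ?_).nonempty
  · rintro ⟨V⟩ p q hp hq
    suffices hg : d p q = 1 by rw [← hd p q, hg, P.one_smul]
    refine h.inj _ _ fun i y => ?_
    obtain ⟨x, T, a, b, z, rfl, hb⟩ := key i y
    have h₁ := hp a i x b z hb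
    have h₂ := hq a i x b z hb
    rw [← hd p q, P.map_smul, dsmul, map_mul, h₁, one_mul, map_inv, inv_eq_one] at h₂
    rw [map_one, ← h.nat, ← h₂]
  · rintro U V f p hp T a i x b z hz
    have := hp (a ≫ f.unop) i x b z hz
    rwa [← pmap] at this
  · intro V p S' hS' hloc T a i x b z hz
    obtain ⟨T', e, he, z', rfl⟩ := h.cover i (S'.pullback a) (J.pullback_stable a hS') z
    have := hloc (e ≫ a) he (𝟙 _) i x (e ≫ b) z' (by rw [Functor.map_comp]; exact hz)
    simp only [op_id, CategoryTheory.Functor.map_id, types_id_apply, ConcreteCategory.id_apply] at this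
    rw [← pmap, ← pmap] at this
    rw [← h.nat, ← dmap]
    exact this
  · intro V
    refine ⟨S.pullback (hT₀.from V), J.pullback_stable _ hS, fun T f hf => ?_⟩
    let s := (hne _ hf).some
    choose x T₁ a₁ b₁ z₁ ha₁ hb₁ using fun i => key i (V := T)
    obtain ⟨g, hg⟩ := h.surj (V := T) fun i y =>
      ev i (z₁ i y) (d (P.P.obj.map (a₁ i y).op s) (P.P.obj.map (b₁ i y).op (t i (x i y))))
    refine ⟨P.smul g s, fun T₂ a i x₂ b z hz => ?_⟩
    let y := (Pt i).map a z
    obtain rfl : x₂ = x i y := by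
      have e₁ := congrArg ((Pt i).map (c i x₂)) hz
      have e₂ := congrArg ((Pt i).map (c i (x i y))) (hb₁ i y)
      rw [← hw i x₂, ← hw i (x i y), ← e₁, ← e₂, ← FunctorToTypes.map_comp_apply, ← FunctorToTypes.map_comp_apply,
        hT₀.hom_ext (b ≫ c i x₂) (a ≫ hT₀.from T), hT₀.hom_ext (b₁ i y ≫ c i (x i y)) (a₁ i y ≫ hT₀.from T),
        FunctorToTypes.map_comp_apply, FunctorToTypes.map_comp_apply, ha₁]
    obtain ⟨T₃, e, e₁, z₃, he, hez, hez₁⟩ := h.square i a (a₁ i y) z (z₁ i y) (ha₁ i y).symm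
    obtain ⟨T₄, l, z₄, hl, hlz⟩ := h.equalize i (e ≫ b) (e₁ ≫ b₁ i y) z₃ (by
      rw [FunctorToTypes.map_comp_apply, FunctorToTypes.map_comp_apply, hez, hez₁, hz, hb₁])
    have h4 : (Pt i).map (l ≫ e) z₄ = z := by rw [FunctorToTypes.map_comp_apply, hlz, hez]
    have h4' : (Pt i).map (l ≫ e₁) z₄ = z₁ i y := by rw [FunctorToTypes.map_comp_apply, hlz, hez₁]
    have hgy : ev i z (G.obj.map a.op g) = ev i (z₁ i y) (d (P.P.obj.map (a₁ i y).op s) (P.P.obj.map (b₁ i y).op (t i (x i y)))) := by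
      rw [h.nat]
      exact hg i y
    show ev i z (d (P.P.obj.map a.op (P.smul g s)) _) = 1
    rw [P.map_smul, dsmul, map_mul, map_inv, hgy, ← h4, ← h.nat, ← dmap, ← h4', ← h.nat, ← dmap,
      pmap, pmap, pmap, pmap, Category.assoc, Category.assoc, he, Category.assoc, Category.assoc]
    rw [show l ≫ e ≫ b = l ≫ e₁ ≫ b₁ i y by simpa using hl]
    exact mul_inv_cancel _

end Groth.Agent.H9Godement
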